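import Cfsg.Agent.H547.SelfCent.Base
import Cfsg.Agent.CTwoTab.HS
import Cfsg.Agent.H603.SporElim
import Cfsg.Agent.Prune
set_option linter.all false
prune_inst 0x7f00000000000000000000000000000000000000000000000000000000000000000000000000000000000000000000000000000000000000000000000000000000000000000000000000000000000000003fffffffffffffffffffffffffffbeffbdffffffff
open scoped Cfsg.Agent.FastGrp

/-!
# `HS`: a prime not adjacent to 2 (helper393)
-/

set_option autoImplicit false

namespace Cfsg.Agent.H393.Iso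

open Subgroup Cfsg Cfsg.Agent.KFacts.HS Cfsg.Agent.KFacts.HS.DFour

theorem na_hs {G : Type*} [Group G] [Finite G] (h : Spor.IsoHS G) : NA 11 G := by
  have hcard := NotCT.Orders.hs h
  obtain ⟨D⟩ := exists_mod h
  refine NA.of_rep (fun s => s = zA D ∨ s = wB D) (fun a haa ha1 => ?_) ?_
  · rcases inv_cases D a haa ha1 with ⟨c, h⟩ | ⟨c, h⟩
    · exact ⟨c, zA D, Or.inl rfl, h⟩
    · exact ⟨c, wB D, Or.inr rfl, h⟩
  · rintro s (rfl | rfl) x hx hxs
    · refine false_of_pGroup' (by norm_num) (by norm_num) (d := 9) (okd_spec (by decide +kernel)) (RL_pGroup D)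
        (by rw [hcard]; norm_num) hx (fun y hy => RL_norm D hxs hy) (m := 2) (fun h1 => ?_)
      have e : x ^ 2 ^ 2 = (x * x) * (x * x) := by
        rw [show (2 : ℕ) ^ 2 = 2 + 2 by norm_num, pow_add, pow_two]
      rcases cent_RL D hxs h1 with h | h | h
      · rw [h, one_pow]
      · rw [e, h, zA_sq, one_mul]
      · rw [e, h, zA_sq]
    · exact not_comm_of_le (by norm_num) (card_C D) (CTwoTab.HS.LA_le D) (by rw [card_LA]; norm_num)
        (by rw [card_LA]; norm_num) hx hxs

end Cfsg.Agent.H393.Iso
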