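import Cfsg.Agent.H393.Iso.Large
import Cfsg.Agent.CTwoTab.Monster
import Cfsg.Agent.Prune
set_option linter.all false
prune_inst 0x7f00000000000000000000000000000000000000000000000000000000000000000000000000000000000000000000000000000000000000000000000000000000000000000000000000000000000000003fffffffffffffffffffffffffffbeffbdffffffff
open scoped Cfsg.Agent.FastGrp

/-!
# The Monster: primes not adjacent to 2 (helper393)
-/

set_option autoImplicit false

namespace Cfsg.Agent.H393.Iso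

open Subgroup Cfsg Cfsg.Agent.CTwoTab Cfsg.Agent.MonsterX.Model Cfsg.Agent.MonsterX.MainPack
  Cfsg.Agent.MonsterX.MainSimple Cfsg.Agent.MonsterX.MainBasic Cfsg.Agent.MonsterU.Assembly

theorem na_m_of {W : Type} [AddCommGroup W] [Module ℚ W] {M : MData W} {K₀ : Type} [Group K₀] (A : All M K₀)
    {p : ℕ} (hp : p.Prime) (hp2 : p ≠ 2) (hd : okd p 2 24 = true)
    (hc : ¬ p ∣ 2 * 4154781481226426191177580544000000) : NA p M.G := by
  have := G_finite A.hO
  refine NA.of_rep (fun s => s = zG A.hG ∨ s = tG A.hG A.hR) (fun t ht ht1 => ?_) ?_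
  · rcases A.classes t ht ht1 with ⟨g, hg⟩ | ⟨g, hg⟩
    · exact ⟨g, _, Or.inl rfl, hg⟩
    · exact ⟨g, _, Or.inr rfl, hg⟩
  · rintro s (rfl | rfl) x hx hxs
    · refine false_of_large hp hp2 (Cfsg.Agent.MonsterU.ModelChart.large A.hG A.hR A.hL A.hO A.hT) (k := 25) (d := 24)
        ?_ le_rfl hd hx hxs
      rw [← A.hG.Q_card]
      exact Nat.card_congr (Subgroup.subgroupOfEquivOfLe (A.hG.Q_le.trans C_le)).toEquiv
    · refine not_comm_of_card ?_ hx hxs
      rwa [card_cent_t A.hG A.hR A.hL A.hO A.hT]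

theorem na_m {G : Type*} [Group G] (h : Spor.IsoM G) {p : ℕ} (hp : p = 29 ∨ p = 59 ∨ p = 71) : NA p G := by
  obtain ⟨e⟩ := h
  obtain ⟨f⟩ := Cfsg.Agent.MonsterP.Equiv.equiv
  refine NA.of_equiv (e.trans f).symm (na_m_of Cfsg.Agent.MonsterU.Uncond.all ?_ ?_ ?_ ?_)
  · rcases hp with rfl | rfl | rfl <;> norm_num
  · rcases hp with rfl | rfl | rfl <;> norm_num
  · rcases hp with rfl | rfl | rfl <;> decide +kernel
  · rcases hp with rfl | rfl | rfl <;> norm_num

end Cfsg.Agent.H393.Iso
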