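import Cfsg.Agent.H393.Iso.Large
import Cfsg.Agent.CTwoTab.Co1
import Cfsg.Agent.KFacts.Co1.YBig
import Cfsg.Agent.Prune
set_option linter.all false
prune_inst 0x7f00000000000000000000000000000000000000000000000000000000000000000000000000000000000000000000000000000000000000000000000000000000000000000000000000000000000000003fffffffffffffffffffffffffffbeffbdffffffff
open scoped Cfsg.Agent.FastGrp

/-!
# `Co₁`: a prime not adjacent to 2 (helper393)
-/

set_option autoImplicit false
open Cfsg
open scoped commutatorElement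

namespace Cfsg.Agent.H393.Iso

open Cfsg.Agent.SporadicA.Co0Mono
open Cfsg.Agent.SporadicA.Co1Simple (allOne exists_sign_perm)
open Cfsg.Agent.SporadicA.GolayBase Cfsg.Agent.SporadicA.GolayPerm
open Cfsg.Agent.CoOneType.SignFacts (wt wt_add_allOne sign_allOne_comm)
open Cfsg.Agent.CoOneType.ClosingFacts (mk mk_mul mk_inv exists_mk mk_eq_one mk_eq)
open Cfsg.Agent.Co2Type.Quad (Large)
open Cfsg.Agent.KFacts.Co1D4
open Cfsg.Agent.CTwoTab

theorem wt_zero : wt (0 : golayCode) = 0 := by
  unfold wt
  rw [Finset.card_eq_zero, Finset.eq_empty_iff_forall_notMem]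
  intro i
  rw [Cfsg.Agent.CoOneType.SignFacts.notMem_sup]
  rfl

theorem allOne_ne : allOne ≠ 0 := by
  intro h
  have h1 := wt_add_allOne (0 : golayCode)
  rw [h, add_zero] at h1
  have h2 := wt_zero
  omega

theorem card_E : ∃ k, Nat.card ↥Co1.E = 2 ^ k ∧ k ≤ 11 := by
  have hE : Co1.E = Co1.sgn.range := by
    ext k
    constructor
    · rintro ⟨c, rfl⟩
      exact ⟨Multiplicative.ofAdd c, rfl⟩
    · rintro ⟨c, rfl⟩
      exact ⟨c.toAdd, rfl⟩
  have hcard : Nat.card (Multiplicative golayCode) = 4096 := Cfsg.Agent.S0358.card_golayCode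
  have hfin : Finite (Multiplicative golayCode) := Nat.finite_of_card_ne_zero (by rw [hcard]; norm_num)
  have h6 := Subgroup.card_mul_index Co1.sgn.ker
  rw [hcard, Subgroup.index_ker, ← hE] at h6
  have h7 : 2 ≤ Nat.card Co1.sgn.ker := by
    have h8 : Nontrivial Co1.sgn.ker := by
      refine ⟨⟨⟨Multiplicative.ofAdd allOne, ?_⟩, 1, ?_⟩⟩
      · rw [MonoidHom.mem_ker]
        show mk (signCo0 allOne) = 1
        exact (mk_eq_one _).2 (Or.inr rfl)
      · intro h
        exact allOne_ne (congrArg (fun x : Co1.sgn.ker => (x : Multiplicative golayCode).toAdd) h)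
    exact Finite.one_lt_card
  obtain ⟨k, hk, hk'⟩ := (Nat.dvd_prime_pow Nat.prime_two).1
    (Dvd.intro_left _ h6 : Nat.card ↥Co1.E ∣ 2 ^ 12)
  refine ⟨k, hk', ?_⟩
  rcases Nat.lt_or_ge k 12 with h | h
  · omega
  · have h9 : k = 12 := le_antisymm hk h
    rw [hk', h9] at h6
    omega

theorem na_co1_model [Finite Spor.Co1] : NA 23 Spor.Co1 := by
  refine NA.of_rep Co1.Rep (fun t ht ht1 => ?_) ?_
  · obtain ⟨g, s, hs, h⟩ := Co1.exists_rep t (two_of_sq ht ht1)
    exact ⟨g, s, hs, h.symm⟩
  · rintro s (⟨o, ho, rfl⟩ | ⟨d, hd, rfl⟩ | rfl) x hx hxs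
    · exact false_of_large (by norm_num) (by norm_num) (KFacts.Co1.InCo1.large ho) (k := 9) (d := 10)
        (by rw [KFacts.Co1.YBig.card_R ho]; norm_num) (by norm_num) (by decide +kernel) hx hxs
    · obtain ⟨k, hk, hk'⟩ := card_E
      refine false_of_two_group (by norm_num) (by norm_num) (okd_spec (d := 10) (by decide +kernel)) hk hx ?_ ?_
        (fun h => Or.inl ?_)
      · rintro _ ⟨c, rfl⟩
        obtain ⟨g, rfl⟩ := exists_mk x
        obtain ⟨a, σ, rfl⟩ := exists_sign_perm (DodBal.mem_N hd hxs)
        rw [Co1.conj_sign]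
        exact Co1.sign_mem _
      · rcases Nat.lt_or_ge k 11 with h | h
        · exact Or.inl (by omega)
        · refine Or.inr ⟨by omega, mk (signCo0 d), Co1.sign_mem _, ?_, hxs⟩
          intro h
          have h2 : mk (signCo0 d) = mk (signCo0 0) := by
            rw [h, signCo0_zero]; rfl
          have h0 := wt_zero
          rcases DodBal.mk_sign_eq h2 with h3 | h3
          · rw [h3, h0] at hd
            omega
          · have h4 := wt_add_allOne (0 : golayCode)
            rw [h0, ← h3] at h4
            omega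
      · obtain ⟨g, rfl⟩ := exists_mk x
        obtain ⟨a, σ, rfl⟩ := exists_sign_perm (DodBal.mem_N hd hxs)
        have hσ : σ = 1 := by
          apply DodBal.perm_eq_one
          intro c hc
          have h1 := Co1.conj_sign a c σ
          rw [h _ (Co1.sign_mem c), mul_inv_cancel_right] at h1
          rcases DodBal.mk_sign_eq h1.symm with h8 | h8
          · exact h8
          · exfalso
            have hwt : wt (wordPerm σ c) = wt c := by
              unfold Cfsg.Agent.CoOneType.SignFacts.wt
              rw [Cfsg.Agent.CoOneType.CoOneE.sup_wordPerm]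
              exact Finset.card_smul_finset σ _
            have h10 := wt_add_allOne c
            rw [← h8, hwt] at h10
            omega
        subst hσ
        rw [map_one, mul_one]
        exact Co1.sign_mem a
    · refine not_comm_of_le (by norm_num) Main.setup.card (L := GTwo.L) ?_ ?_ ?_ hx hxs
      · intro l hl
        exact Subgroup.mem_centralizer_singleton_iff.2 (TwoB.Lw l hl)
      · rw [GTwo.card_L]; norm_num
      · rw [GTwo.card_L]; norm_num

theorem na_co1 {G : Type*} [Group G] [Finite G] (h : Spor.IsoCo1 G) : NA 23 G :=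
  h.elim fun e =>
    have := Finite.of_equiv G e.toEquiv
    na_co1_model.of_equiv e.symm

end Cfsg.Agent.H393.Iso
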