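import Cfsg.Agent.H547.SelfCent.Base
import Cfsg.Agent.CTwoTab.Co3
import Cfsg.Agent.Prune
set_option linter.all false
prune_inst 0x7f00000000000000000000000000000000000000000000000000000000000000000000000000000000000000000000000000000000000000000000000000000000000000000000000000000000000000003fffffffffffffffffffffffffffbeffbdffffffff
open scoped Cfsg.Agent.FastGrp

/-!
# `Co₃`: a prime not adjacent to 2 (helper393)
-/

set_option autoImplicit false

namespace Cfsg.Agent.H393.Iso

open Subgroup Cfsg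
open Cfsg.Agent.SporRec.Co3.Chain Cfsg.Agent.SporRec.Co3.Ident

theorem na_co3_model [Finite Spor.Co3] : NA 23 Spor.Co3 := by
  obtain ⟨w, D⟩ := CTwoTab.Co3.exists_data
  refine NA.of_equiv SporRec.Co3.Model.equivCo3 ?_
  have hfin := CTwoTab.Co3.finite_G3
  refine NA.of_rep (fun s => s = Z ∨ (s = w ∧ orderOf w = 2)) (fun t ht ht1 => ?_) ?_
  · have h2 := two_of_sq ht ht1
    obtain ⟨g, h | h⟩ := D.cls t h2
    · exact ⟨g, _, Or.inl rfl, h.symm⟩
    · refine ⟨g, _, Or.inr ⟨rfl, ?_⟩, h.symm⟩
      rw [h] at h2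
      rw [← h2]
      exact (orderOf_injective (MulAut.conj g).toMonoidHom (MulAut.conj g).injective w).symm
  · rintro s (rfl | ⟨rfl, hw2⟩) x hx hxs
    · obtain ⟨π, N⟩ := D.ns
      refine not_comm_of_card ?_ hx hxs
      rw [CTwoTab.Co3.card_of_NS N]
      norm_num
    · obtain ⟨f, -, hk⟩ := D.hom
      exact false_of_hom (by norm_num) f (by rw [D.card]; norm_num) (by rw [hw2]; norm_num) hk hx (mem_cent.2 hxs)

theorem na_co3 {G : Type*} [Group G] [Finite G] (h : Spor.IsoCo3 G) : NA 23 G :=
  h.elim fun e =>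
    have := Finite.of_equiv G e.toEquiv
    na_co3_model.of_equiv e.symm

end Cfsg.Agent.H393.Iso
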