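import Cfsg.Agent.H547.SelfCent.Base
import Cfsg.Agent.CTwoTab.Fi23Fin
import Cfsg.Agent.Prune
set_option linter.all false
prune_inst 0x7f00000000000000000000000000000000000000000000000000000000000000000000000000000000000000000000000000000000000000000000000000000000000000000000000000000000000000003fffffffffffffffffffffffffffbeffbdffffffff
open scoped Cfsg.Agent.FastGrp

/-!
# `Fi23`: a prime not adjacent to 2 (helper393)
-/

set_option autoImplicit false
set_option maxRecDepth 100000

namespace Cfsg.Agent.H393.Iso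

open Subgroup Cfsg
open Cfsg.Agent.Fischer.Fi23Z Cfsg.Agent.Fischer.Fi23Hom
open Cfsg.Agent.Fischer Cfsg.Agent.Fischer.Fi23Class Cfsg.Agent.Fischer.Fi23Simple
open Cfsg.Agent.KFacts.FiTTh.Cent
open Cfsg.Spor Cfsg.Spor.Fi23
open Cfsg.Agent.CTwoTab.Fi23

theorem fi23_z0 {x : Fi23} (hx : orderOf x = 23) (hxz : x * z0 = z0 * x) : False := by
  have := CTwoTab.Fi23Res.finite_Fi23
  refine not_comm_of_card ?_ hx hxz
  rw [← K_eq, card_K]
  norm_num

theorem na_fi23_model : NA 23 Fi23 := by
  have := CTwoTab.Fi23Res.finite_Fi23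
  refine NA.of_isConj (fun s => s = z0 ∨ s = W2 ∨ s = W3) (fun t ht ht1 => ?_) ?_
  · rcases KFacts.FiTTh.Has.inv t ht ht1 with h | h | h
    · exact ⟨_, Or.inl rfl, h.symm⟩
    · exact ⟨_, Or.inr (Or.inl rfl), h.symm⟩
    · exact ⟨_, Or.inr (Or.inr rfl), h.symm⟩
  · rintro s (rfl | rfl | rfl) x hx hxs
    · exact fi23_z0 hx hxs
    · refine fi23_z0 hx (comm_of_small (p := 23) (by norm_num) (Z := Ds2) (Set.toFinite _) hx
        (fun z hz => perm2 hxs hz) ?_ z0 (Or.inl rfl))
      have h1 := Set.ncard_insert_le z0 ({gen .a} : Set Fi23)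
      rw [Set.ncard_singleton] at h1
      exact lt_of_le_of_lt h1 (by norm_num)
    · refine fi23_z0 hx (comm_of_small (p := 23) (by norm_num) (Z := Ds3) (Set.toFinite _) hx
        (fun z hz => perm3 hac hxs hz) ?_ z0 (Or.inl rfl))
      have h1 := Set.ncard_insert_le z0 ({gen .a, gen .c} : Set Fi23)
      have h2 := Set.ncard_insert_le (gen .a) ({gen .c} : Set Fi23)
      rw [Set.ncard_singleton] at h2
      exact lt_of_le_of_lt h1 (by omega)

theorem na_fi23 {G : Type*} [Group G] (h : Spor.IsoFi23 G) : NA 23 G :=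
  h.elim fun e => na_fi23_model.of_equiv e.symm

end Cfsg.Agent.H393.Iso
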