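import Cfsg.Agent.H547.SelfCent.Base
import Cfsg.Agent.H413.JOneLocal
import Cfsg.Agent.SporRec.J1.EqTopC
import Cfsg.Agent.Prune
set_option linter.all false
prune_inst 0x7f00000000000000000000000000000000000000000000000000000000000000000000000000000000000000000000000000000000000000000000000000000000000000000000000000000000000000003fffffffffffffffffffffffffffbeffbdffffffff
open scoped Cfsg.Agent.FastGrp

/-!
# `J₁`: a prime not adjacent to 2 (helper393)
-/

set_option autoImplicit false

namespace Cfsg.Agent.H393.Iso

open Subgroup Cfsg

theorem na_j1_model [Finite Spor.J1] : NA 19 Spor.J1 :=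
  NA.of_card fun t ht => by
    rw [SporRec.J1.EqTopC.card_cent2 H413.JOneLocal.isLocal t ht]
    norm_num

theorem na_j1 {G : Type*} [Group G] [Finite G] (h : Spor.IsoJ1 G) : NA 19 G :=
  h.elim fun e =>
    have := Finite.of_equiv G e.toEquiv
    na_j1_model.of_equiv e.symm

end Cfsg.Agent.H393.Iso
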