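import Cfsg.Agent.H393.Iso.Large
import Cfsg.Agent.CTwoTab.Suz
import Cfsg.Agent.Prune
set_option linter.all false
prune_inst 0x7f00000000000000000000000000000000000000000000000000000000000000000000000000000000000000000000000000000000000000000000000000000000000000000000000000000000000000003fffffffffffffffffffffffffffbeffbdffffffff
open scoped Cfsg.Agent.FastGrp

/-!
# `Suz`: a prime not adjacent to 2 (helper393)
-/

set_option autoImplicit false

namespace Cfsg.Agent.H393.Iso

open Subgroup Cfsg Cfsg.Spor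
open Cfsg.Agent.SporadicRecognition.SuzOrder Cfsg.Agent.SuzThree.Basic Cfsg.Agent.SuzThree.CentA
  Cfsg.Agent.KFacts.SuzLFour Cfsg.Agent.KFacts.SuzTwoB Cfsg.Agent.CTwoTab.SuzPlane

theorem na_suz_model [Finite Cfsg.Spor.Suz] : NA 11 Cfsg.Spor.Suz := by
  refine NA.of_isConj (fun s => s = z0 ∨ s = e0) (fun t ht ht1 => ?_) ?_
  · rcases CTwoTab.Suz.classes ht ht1 with h | h
    · exact ⟨_, Or.inl rfl, h⟩
    · exact ⟨_, Or.inr rfl, h⟩
  · rintro s (rfl | rfl) x hx hxs
    · exact false_of_large (by norm_num) (by norm_num) KFacts.SuzLarge.large (k := 7) (d := 6)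
        KFacts.SuzR.card_R (by norm_num) (by decide +kernel) hx hxs
    · refine false_of_pow_mem (by norm_num) (L := VL) ?_ hx (n := 2) (by norm_num) ?_
      · rw [card_VL, card_L]
        norm_num
      · rw [pow_two]
        exact Subgroup.mul_self_mem_of_index_two idx.1 (⟨x, mem_CE.2 hxs⟩ : ↥CE)

theorem na_suz {G : Type*} [Group G] [Finite G] (h : Spor.IsoSuz G) : NA 11 G :=
  h.elim fun e =>
    have := Finite.of_equiv G e.toEquiv
    na_suz_model.of_equiv e.symm

end Cfsg.Agent.H393.Iso
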