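import Cfsg.Agent.H393.Iso.Mathieu
import Cfsg.Agent.H393.Iso.J1
import Cfsg.Agent.H393.Iso.J23
import Cfsg.Agent.H393.Iso.TitsJ4
import Cfsg.Agent.H393.Iso.Co1
import Cfsg.Agent.H393.Iso.Co2
import Cfsg.Agent.H393.Iso.Co3
import Cfsg.Agent.H613.Ly5.ThirtyOne
import Cfsg.Agent.H393.Iso.HS
import Cfsg.Agent.H393.Iso.Suz
import Cfsg.Agent.H393.Iso.He
import Cfsg.Agent.H393.Iso.Ru
import Cfsg.Agent.H393.Iso.ON
import Cfsg.Agent.H393.Iso.Fi22
import Cfsg.Agent.H393.Iso.Fi23
import Cfsg.Agent.H393.Iso.Fi24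
import Cfsg.Agent.H547.PP.FarBaby
import Cfsg.Agent.H393.Iso.Monster
import Cfsg.Agent.H603.SporElim
import Cfsg.Prelude.Def_Classification2
import Cfsg.Agent.Prune
set_option linter.all false
prune_inst 0x7f00000000000000000000000000000000000000000000000000000000000000000000000000000000000000000000000000000000000000000000000000000000000000000000000000000000000000003fffffffffffffffffffffffffffbeffbdffffffff
open scoped Cfsg.Agent.FastGrp

/-!
# Sporadic groups and the Tits group: an odd prime not adjacent to `2` in the prime graph (helper393)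

`NA p G` : no element of order `p` commutes with an involution. For every sporadic group and for the Tits group there is
an odd prime `p` dividing `|G|` with `NA p G`:

M11 11, M12 11, M22 11, M23 23, M24 23, J1 19, J2 7, J3 19, J4 29 and 37, Co1 23, Co2 23, Co3 23, McL 11, HS 11, Suz 11,
He 17, Ru 29, ON 31, Ly 67, Fi22 13, Fi23 23, Fi24' 29, HN 19, Th 19, B 47, M 29, 59 and 71, Tits 13.
-/

set_option autoImplicit false

namespace Cfsg.Agent.H393.Iso

open Cfsg

/-- an odd prime dividing `|G|`, no element of which commutes with an involution -/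
def Isolated (G : Type*) [Group G] : Prop := ∃ p : ℕ, p.Prime ∧ p ≠ 2 ∧ p ∣ Nat.card G ∧ NA p G

theorem Isolated.far {G : Type*} [Group G] (h : Isolated G) :
    ∃ r : ℕ, r.Prime ∧ r ≠ 2 ∧ r ∣ Nat.card G ∧ ∀ g : G, orderOf g ≠ 2 * r := by
  obtain ⟨p, hp, hp2, hd, hna⟩ := h
  exact ⟨p, hp, hp2, hd, fun g => hna.ne_two_mul hp g⟩

theorem isolated_of_isTits {G : Type*} [Group G] [Finite G] (h : Lie.IsoTits G) : Isolated G :=
  ⟨13, by norm_num, by norm_num, by rw [NotCT.Orders.tits h]; norm_num, na_tits h⟩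

/-- **Every sporadic simple group has an odd prime not adjacent to `2`.** -/
theorem isolated_of_isSporadic {G : Type*} [Group G] [Finite G] [IsSimpleGroup G] (h : IsSporadicGroup G) :
    Isolated G := by
  rcases h with h | h | h | h | h | h | h | h | h | h | h | h | h | h | h | h | h | h | h | h | h | h | h | h | h | h
  · exact ⟨11, by norm_num, by norm_num, by rw [NotCT.Orders.m11 h]; norm_num, na_m11 h⟩
  · exact ⟨11, by norm_num, by norm_num, by rw [NotCT.Orders.m12 h]; norm_num, na_m12 h⟩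
  · exact ⟨11, by norm_num, by norm_num, by rw [NotCT.Orders.m22 h]; norm_num, na_m22 h⟩
  · exact ⟨23, by norm_num, by norm_num, by rw [NotCT.Orders.m23 h]; norm_num, na_m23 h⟩
  · exact ⟨23, by norm_num, by norm_num, by rw [NotCT.Orders.m24 h]; norm_num, na_m24 h⟩
  · exact ⟨19, by norm_num, by norm_num, by rw [NotCT.Orders.j1 h]; norm_num, na_j1 h⟩
  · exact ⟨7, by norm_num, by norm_num, by rw [NotCT.Orders.j2 h]; norm_num, na_j2 h⟩
  · exact ⟨19, by norm_num, by norm_num, by rw [NotCT.Orders.j3 h]; norm_num, na_j3 h⟩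
  · exact ⟨37, by norm_num, by norm_num, by rw [NotCT.Orders.j4 h]; norm_num, na_j4_37 h⟩
  · exact ⟨23, by norm_num, by norm_num, by rw [NotCT.Orders.co1 h]; norm_num, na_co1 h⟩
  · exact ⟨23, by norm_num, by norm_num, by rw [NotCT.Orders.co2 h]; norm_num, na_co2 h⟩
  · exact ⟨23, by norm_num, by norm_num, by rw [NotCT.Orders.co3 h]; norm_num, na_co3 h⟩
  · exact ⟨11, by norm_num, by norm_num, by rw [NotCT.Orders.mcl h]; norm_num, na_mcl h⟩
  · exact ⟨11, by norm_num, by norm_num, by rw [NotCT.Orders.hs h]; norm_num, na_hs h⟩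
  · exact ⟨11, by norm_num, by norm_num, by rw [NotCT.Orders.suz h]; norm_num, na_suz h⟩
  · exact ⟨17, by norm_num, by norm_num, by rw [NotCT.Orders.he h]; norm_num, na_he h⟩
  · exact ⟨29, by norm_num, by norm_num, by rw [NotCT.Orders.ru h]; norm_num, na_ru h⟩
  · exact ⟨31, by norm_num, by norm_num, by rw [NotCT.Orders.on h]; norm_num, na_on h⟩
  · exact ⟨67, by norm_num, by norm_num, by rw [NotCT.Orders.ly h]; norm_num, na_ly h⟩
  · exact ⟨13, by norm_num, by norm_num, by rw [NotCT.Orders.fi22 h]; norm_num, na_fi22 h⟩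
  · exact ⟨23, by norm_num, by norm_num, by rw [NotCT.Orders.fi23 h]; norm_num, na_fi23 h⟩
  · exact ⟨29, by norm_num, by norm_num, by rw [NotCT.Orders.fi24 h]; norm_num, na_fi24 h⟩
  · exact ⟨19, by norm_num, by norm_num, by rw [NotCT.Orders.hn h]; norm_num, na_hn h⟩
  · exact ⟨19, by norm_num, by norm_num, by rw [NotCT.Orders.th h]; norm_num, na_th h⟩
  · exact ⟨47, by norm_num, by norm_num, by rw [NotCT.Orders.b h]; norm_num, na_b h⟩
  · exact ⟨71, by norm_num, by norm_num, by rw [NotCT.Orders.m h]; norm_num, na_m h (Or.inr (Or.inr rfl))⟩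

end Cfsg.Agent.H393.Iso
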