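import Cfsg.Agent.H547.SelfCent.Base
import Cfsg.Agent.SporadicA.M11Sylow
import Cfsg.Agent.MTwelve.SylowEleven
import Cfsg.Agent.M22.Sylow11
import Cfsg.Agent.M23.Sylow23
import Cfsg.Agent.SporadicA.M24.Sylow23
import Cfsg.Agent.H603.SporElim
import Cfsg.Agent.Prune
set_option linter.all false
prune_inst 0x7f00000000000000000000000000000000000000000000000000000000000000000000000000000000000000000000000000000000000000000000000000000000000000000000000000000000000000003fffffffffffffffffffffffffffbeffbdffffffff
open scoped Cfsg.Agent.FastGrp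

/-!
# The Mathieu groups: a prime not adjacent to 2 (helper393)
-/

set_option autoImplicit false

namespace Cfsg.Agent.H393.Iso

open Subgroup Cfsg

variable {G : Type*} [Group G] [Finite G] [IsSimpleGroup G]

theorem na_m11_of_card (h : Nat.card G = 7920) : NA 11 G :=
  NA.of_cent fun x hx => by
    rw [SporadicA.M11Sylow.card_centralizer_eleven (⟨inferInstance, h⟩ : IsM11 G) hx]
    norm_num

theorem na_m12_of_card (h : Nat.card G = 95040) : NA 11 G :=
  NA.of_sylow (by norm_num) (by norm_num) (by rw [h]; norm_num)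
    (fun P => MTwelve.SylowEleven.centralizer_sylow11 h P)

theorem na_m22_of_card (h : Nat.card G = 443520) : NA 11 G := by
  have hp : Fact (Nat.Prime 11) := ⟨by norm_num⟩
  exact NA.of_sylow (by norm_num) (by norm_num) (by rw [h]; norm_num)
    (fun P => (M22.Sylow11.sylow_eleven h P).1)

theorem na_m23_of_card (h : Nat.card G = 10200960) : NA 23 G :=
  NA.of_sylow (by norm_num) (by norm_num) (by rw [h]; norm_num)
    (fun P => M23.Sylow23.centralizer_eq h P)

theorem na_m24_of_card (h : Nat.card G = 244823040) : NA 23 G :=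
  NA.of_sylow (by norm_num) (by norm_num) (by rw [h]; norm_num)
    (fun P => SporadicA.M24.Sylow23.centralizer_eq h P)

theorem na_m11 (h : Spor.IsoM11 G) : NA 11 G := na_m11_of_card (NotCT.Orders.m11 h)
theorem na_m12 (h : Spor.IsoM12 G) : NA 11 G := na_m12_of_card (NotCT.Orders.m12 h)
theorem na_m22 (h : Spor.IsoM22 G) : NA 11 G := na_m22_of_card (NotCT.Orders.m22 h)
theorem na_m23 (h : Spor.IsoM23 G) : NA 23 G := na_m23_of_card (NotCT.Orders.m23 h)
theorem na_m24 (h : Spor.IsoM24 G) : NA 23 G := na_m24_of_card (NotCT.Orders.m24 h)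

end Cfsg.Agent.H393.Iso
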