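import Cfsg.Agent.H547.SelfCent.Base
import Cfsg.Agent.H237.EvenFi
import Cfsg.Agent.FastGrp
import Cfsg.Agent.Prune
set_option linter.all false
prune_inst 0x7f00000000000000000000000000000000000000000000000000000000000000000000000000000000000000000000000000000000000000000000000000000000000000000000000000000000000000003fffffffffffffffffffffffffffbeffbdffffffff
open scoped Cfsg.Agent.FastGrp

/-!
# `Fi24'`: a prime not adjacent to 2 (helper393)
-/

set_option autoImplicit false

namespace Cfsg.Agent.H393.Iso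

open Cfsg Cfsg.Spor Cfsg.Agent.R01 Cfsg.Agent.R08 Cfsg.Agent.R08.FiTwentyFour
open Cfsg.Agent.R08.TetTwo Cfsg.Agent.R08.TetThree Cfsg.Agent.R08.TetBasic
open Subgroup
open scoped commutatorElement

local notation "Pr" => Cfsg.Agent.R08.TetFi24A.At

theorem na_fi24_model : NA 29 Spor.Fi24' := by
  have := finite_Fi24
  have : Finite Spor.Fi24' := inferInstance
  refine NA.of_rep (fun s => (∃ a b : Fi24, ∃ _ : Pr a b, (s : Fi24) = a * b) ∨ s = CTwoTab.FiTF.z0)
    (fun t ht ht1 => ?_) ?_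
  · rcases CTwoTab.FiTF.classes t (two_of_sq ht ht1) with h | ⟨g, hg⟩
    · exact ⟨1, t, Or.inl h, by group⟩
    · exact ⟨g, _, Or.inr rfl, hg.symm⟩
  · rintro s (⟨a, b, P, hs⟩ | rfl) x hx hxs
    · refine false_of_pow_mem (by norm_num) (L := CTwoTab.FiTF.N a b) ?_ hx (n := 2) (by norm_num) ?_
      · rw [Nat.card_congr (CTwoTab.FiTF.eN a b).toEquiv, OddHalf.D4.Spor.FiTF.card_Cab P]
        norm_num
      · have h2 : ((x ^ 2 : Spor.Fi24') : Fi24) = (x : Fi24) * (x : Fi24) := by
          rw [SubgroupClass.coe_pow, pow_two]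
        have h3 : ∀ u v w : Fi24, (x : Fi24) * u * (x : Fi24)⁻¹ = v → (x : Fi24) * v * (x : Fi24)⁻¹ = w →
            (x : Fi24) * (x : Fi24) * u = w * ((x : Fi24) * (x : Fi24)) := by
          rintro u v w rfl rfl
          group
        have h4 : (x : Fi24) * (x : Fi24) * a = a * ((x : Fi24) * (x : Fi24)) ∧
            (x : Fi24) * (x : Fi24) * b = b * ((x : Fi24) * (x : Fi24)) := by
          rcases CTwoTab.FiTF.fix_or_swap P hs (mem_cent.2 hxs) with ⟨k1, k2⟩ | ⟨k1, k2⟩
          · exact ⟨h3 _ _ _ k1 k1, h3 _ _ _ k2 k2⟩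
          · exact ⟨h3 _ _ _ k1 k2, h3 _ _ _ k2 k1⟩
        rw [CTwoTab.FiTF.mem_N, mem_Cab, h2]
        exact ⟨mem_commutator_iff.1 (by rw [← h2]; exact (x ^ 2 : Spor.Fi24').2), h4.1, h4.2⟩
    · refine false_of_two_group (by norm_num) (by norm_num) (okd_spec (d := 13) (by decide +kernel))
        CTwoTab.FiTF.R0_card hx
        (fun y hy => CTwoTab.FiTF.R0_norm x (mem_cent.2 hxs) y hy) (Or.inl le_rfl) (fun h => ?_)
      rcases CTwoTab.FiTF.R0_cent x h with h1 | h1
      · left
        rw [h1]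
        exact one_mem _
      · left
        rw [h1]
        exact CTwoTab.FiTF.z0_mem

theorem na_fi24 {G : Type*} [Group G] (h : Spor.IsoFi24' G) : NA 29 G :=
  h.elim fun e => na_fi24_model.of_equiv e.symm

end Cfsg.Agent.H393.Iso
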