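import Cfsg.Agent.H547.SelfCent.Base
import Cfsg.Agent.CTwoTab.OfLarge
import Cfsg.Agent.Prune
set_option linter.all false
prune_inst 0x7f00000000000000000000000000000000000000000000000000000000000000000000000000000000000000000000000000000000000000000000000000000000000000000000000000000000000000003fffffffffffffffffffffffffffbeffbdffffffff

/-!
# Large extraspecial subgroups and primes not adjacent to 2 (helper393)
-/

set_option autoImplicit false

namespace Cfsg.Agent.H393.Iso

open Subgroup Cfsg Cfsg.Agent.Co2Type.Quad

/-- no element of order `p` commutes with `z` if `C(z)` has a large 2-subgroup of small order -/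
theorem false_of_large {X : Type*} [Group X] [Finite X] {p : ℕ} (hp : p.Prime) (hp2 : p ≠ 2) {Q : Subgroup X} {z : X}
    (h : Large Q z) {k d : ℕ} (hQ : Nat.card Q = 2 ^ k) (hk : k ≤ d + 1)
    (hd : okd p 2 d = true) {x : X} (hx : orderOf x = p) (hxz : x * z = z * x) : False := by
  refine false_of_two_group hp hp2 (okd_spec hd) hQ hx (fun y hy => h.conj_mem x hxz y hy) ?_ ?_
  · rcases Nat.lt_or_ge k (d + 1) with h1 | h1
    · exact Or.inl (by omega)
    · exact Or.inr ⟨by omega, z, h.z_mem, h.z_ne, hxz⟩
  · intro h1
    exact Or.inl (h.self x hxz h1)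

end Cfsg.Agent.H393.Iso
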